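import Groth.Agent.H54.AffineTrdeg
import Mathlib.RingTheory.KrullDimension.Polynomial
import Mathlib.RingTheory.Ideal.MinimalPrime.Localization
import Mathlib.RingTheory.Polynomial.Basic

/-!
# The cone over a closed subset of codimension `≥ 2`

If `V(g) ⊆ 𝔸ⁿ` has codimension at least `2` and `A ∉ V(g)`, then a general line through `A`
misses `V(g)`.
-/

set_option autoImplicit false
universe u

namespace Groth.Agent.H27.SA

open MvPolynomial

variable {k : Type u} [Field k] {n m : ℕ}

/-- the quotient `k[x]/(g)` -/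
def Qt (g : Fin m → MvPolynomial (Fin n) k) : Type u :=
  MvPolynomial (Fin n) k ⧸ Ideal.span (Set.range g)

noncomputable instance (g : Fin m → MvPolynomial (Fin n) k) : CommRing (Qt g) :=
  inferInstanceAs (CommRing (MvPolynomial (Fin n) k ⧸ Ideal.span (Set.range g)))

noncomputable instance (g : Fin m → MvPolynomial (Fin n) k) : Algebra k (Qt g) :=
  inferInstanceAs (Algebra k (MvPolynomial (Fin n) k ⧸ Ideal.span (Set.range g)))

instance (g : Fin m → MvPolynomial (Fin n) k) : Algebra.FiniteType k (Qt g) :=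
  inferInstanceAs (Algebra.FiniteType k (MvPolynomial (Fin n) k ⧸ Ideal.span (Set.range g)))

instance (g : Fin m → MvPolynomial (Fin n) k) : IsNoetherianRing (Qt g) :=
  inferInstanceAs (IsNoetherianRing (MvPolynomial (Fin n) k ⧸ Ideal.span (Set.range g)))

/-- the quotient map -/
noncomputable def mkQ (g : Fin m → MvPolynomial (Fin n) k) : MvPolynomial (Fin n) k →ₐ[k] Qt g :=
  Ideal.Quotient.mkₐ k (Ideal.span (Set.range g))

theorem mkQ_g (g : Fin m → MvPolynomial (Fin n) k) (j : Fin m) : mkQ g (g j) = 0 :=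
  Ideal.Quotient.eq_zero_iff_mem.mpr (Ideal.subset_span ⟨j, rfl⟩)

/-- lifting algebra maps killing the `g j` -/
noncomputable def liftQ (g : Fin m → MvPolynomial (Fin n) k) {K : Type*} [CommRing K] [Algebra k K]
    (φ : MvPolynomial (Fin n) k →ₐ[k] K) (hφ : ∀ j, φ (g j) = 0) : Qt g →ₐ[k] K :=
  Ideal.Quotient.liftₐ (Ideal.span (Set.range g)) φ (by
    intro a ha
    have : Ideal.span (Set.range g) ≤ RingHom.ker φ.toRingHom := by
      rw [Ideal.span_le]
      rintro _ ⟨j, rfl⟩
      exact hφ j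
    exact this ha)

theorem liftQ_mkQ (g : Fin m → MvPolynomial (Fin n) k) {K : Type*} [CommRing K] [Algebra k K]
    (φ : MvPolynomial (Fin n) k →ₐ[k] K) (hφ : ∀ j, φ (g j) = 0) (a : MvPolynomial (Fin n) k) :
    liftQ g φ hφ (mkQ g a) = φ a := rfl

/-- the map `k[D] → (k[x]/(g))[s]`, `D_i ↦ s (x_i - A_i)` -/
noncomputable def psi (g : Fin m → MvPolynomial (Fin n) k) (A : Fin n → k) :
    MvPolynomial (Fin n) k →ₐ[k] Polynomial (Qt g) :=
  aeval fun i => Polynomial.X * Polynomial.C (mkQ g (X i) - algebraMap k (Qt g) (A i))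

theorem withBot_aux (x : WithBot ℕ∞) (n : ℕ) (h1 : x + 2 ≤ (n : WithBot ℕ∞))
    (h2 : (n : WithBot ℕ∞) ≤ x + 1) : False := by
  induction x using WithBot.recBotCoe with
  | bot =>
    rw [WithBot.bot_add] at h2
    exact absurd (le_bot_iff.mp h2) (WithBot.coe_ne_bot (a := (n : ℕ∞)))
  | coe y =>
    have e2 : (2 : WithBot ℕ∞) = ((2 : ℕ∞) : WithBot ℕ∞) := rfl
    have e1 : (1 : WithBot ℕ∞) = ((1 : ℕ∞) : WithBot ℕ∞) := rfl
    have en : (n : WithBot ℕ∞) = ((n : ℕ∞) : WithBot ℕ∞) := rfl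
    rw [e2, en, ← WithBot.coe_add, WithBot.coe_le_coe] at h1
    rw [e1, en, ← WithBot.coe_add, WithBot.coe_le_coe] at h2
    have hy : y ≠ ⊤ := by
      rintro rfl
      simp at h1
    lift y to ℕ using hy
    have h1'' : y + 2 ≤ n := by exact_mod_cast h1
    have h2'' : n ≤ y + 1 := by exact_mod_cast h2
    omega

theorem psi_not_injective (g : Fin m → MvPolynomial (Fin n) k)
    (hcodim : ringKrullDim (MvPolynomial (Fin n) k ⧸ Ideal.span (Set.range g)) + 2 ≤
      (n : WithBot ℕ∞)) (A : Fin n → k) :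
    ¬ Function.Injective (psi g A) := by
  intro hinj
  haveI : Algebra.FiniteType k (Polynomial (Qt g)) :=
    Algebra.FiniteType.trans (inferInstance : Algebra.FiniteType k (Qt g)) inferInstance
  have hmin : (⊥ : Ideal (MvPolynomial (Fin n) k)) ∈ minimalPrimes (MvPolynomial (Fin n) k) := by
    rw [IsDomain.minimalPrimes_eq_singleton_bot]; rfl
  have hinjR : Function.Injective ((psi g A).toRingHom) := hinj
  obtain ⟨p, hp, hpc⟩ : ∃ p : Ideal (Polynomial (Qt g)), p.IsPrime ∧
      p.comap (psi g A).toRingHom = ⊥ :=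
    Ideal.exists_comap_eq_of_mem_minimalPrimes_of_injective hinjR ⊥ hmin
  have := hp
  let ψ' : MvPolynomial (Fin n) k →ₐ[k] (Polynomial (Qt g) ⧸ p) :=
    (Ideal.Quotient.mkₐ k p).comp (psi g A)
  have hinj' : Function.Injective ψ' := by
    rw [injective_iff_map_eq_zero]
    intro a ha
    have : a ∈ p.comap (psi g A).toRingHom := by
      rw [Ideal.mem_comap]
      exact Ideal.Quotient.eq_zero_iff_mem.mp ha
    have h0 : a ∈ (⊥ : Ideal (MvPolynomial (Fin n) k)) := hpc ▸ this
    exact h0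
  have h1 := trdeg_le_of_injective ψ' hinj'
  rw [MvPolynomial.trdeg_of_isDomain] at h1
  obtain ⟨s, hs1, hs2⟩ := Groth.Agent.H54.exists_ringKrullDim_eq_trdeg k (Polynomial (Qt g) ⧸ p)
  rw [hs1] at h1
  have hns : n ≤ s := by
    simpa using h1
  have h2 : ringKrullDim (Polynomial (Qt g) ⧸ p) ≤ ringKrullDim (Polynomial (Qt g)) :=
    ringKrullDim_quotient_le p
  rw [hs2, Polynomial.ringKrullDim_of_isNoetherianRing] at h2
  refine withBot_aux (ringKrullDim (Qt g)) n hcodim (le_trans ?_ h2)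
  exact_mod_cast hns

theorem exists_cone_poly (g : Fin m → MvPolynomial (Fin n) k)
    (hcodim : ringKrullDim (MvPolynomial (Fin n) k ⧸ Ideal.span (Set.range g)) + 2 ≤
      (n : WithBot ℕ∞)) (A : Fin n → k) (hA : ∃ j, eval A (g j) ≠ 0) :
    ∃ G : MvPolynomial (Fin n) k, G ≠ 0 ∧ ∀ D : Fin n → k, eval D G ≠ 0 →
      Ideal.span (Set.range fun j =>
        aeval (fun i => Polynomial.C (A i) + Polynomial.X * Polynomial.C (D i)) (g j)) =
        (⊤ : Ideal (Polynomial k)) := by
  obtain ⟨G, hG0, hG⟩ : ∃ G, G ≠ 0 ∧ psi g A G = 0 := by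
    have := psi_not_injective g hcodim A
    rw [injective_iff_map_eq_zero] at this
    push Not at this
    obtain ⟨G, h1, h2⟩ := this
    exact ⟨G, h2, h1⟩
  refine ⟨G, hG0, fun D hD => ?_⟩
  by_contra hne
  obtain ⟨𝔪, h𝔪, hle⟩ := Ideal.exists_le_maximal _ hne
  letI : Field (Polynomial k ⧸ 𝔪) := Ideal.Quotient.field 𝔪
  let mk : Polynomial k →ₐ[k] (Polynomial k ⧸ 𝔪) := Ideal.Quotient.mkₐ k 𝔪
  have hmkC : ∀ c : k, mk (Polynomial.C c) = algebraMap k (Polynomial k ⧸ 𝔪) c := fun c => rfl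
  set τ : Polynomial k ⧸ 𝔪 := mk Polynomial.X with hτdef
  set xs : Fin n → Polynomial k ⧸ 𝔪 :=
    fun i => mk (Polynomial.C (A i) + Polynomial.X * Polynomial.C (D i)) with hxsdef
  have hxsi : ∀ i, xs i = algebraMap k (Polynomial k ⧸ 𝔪) (A i) +
      τ * algebraMap k (Polynomial k ⧸ 𝔪) (D i) := by
    intro i
    rw [hxsdef, hτdef]
    simp only [map_add, map_mul, hmkC]
  have hxs : ∀ j, aeval xs (g j) = 0 := by
    intro j
    have h := comp_aeval_apply
      (f := fun i => Polynomial.C (A i) + Polynomial.X * Polynomial.C (D i)) mk (g j)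
    rw [hxsdef]
    refine h.symm.trans ?_
    exact Ideal.Quotient.eq_zero_iff_mem.mpr (hle (Ideal.subset_span ⟨j, rfl⟩))
  have hinjK : Function.Injective (algebraMap k (Polynomial k ⧸ 𝔪)) :=
    (algebraMap k (Polynomial k ⧸ 𝔪)).injective
  by_cases hτ : τ = 0
  · obtain ⟨j₀, hj₀⟩ := hA
    have hxsA : xs = fun i => algebraMap k (Polynomial k ⧸ 𝔪) (A i) := by
      funext i
      rw [hxsi, hτ, zero_mul, add_zero]
    have h1 := hxs j₀
    rw [hxsA] at h1
    have h2 : aeval (fun i => algebraMap k (Polynomial k ⧸ 𝔪) (A i)) (g j₀) =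
        algebraMap k (Polynomial k ⧸ 𝔪) (eval A (g j₀)) :=
      aeval_algebraMap_apply (Polynomial k ⧸ 𝔪) A (g j₀)
    rw [h2] at h1
    exact hj₀ (hinjK (h1.trans (map_zero _).symm))
  · let ev : Qt g →ₐ[k] (Polynomial k ⧸ 𝔪) := liftQ g (aeval xs) hxs
    let θ : Polynomial (Qt g) →+* (Polynomial k ⧸ 𝔪) := Polynomial.eval₂RingHom ev.toRingHom τ⁻¹
    have hcomp : θ.comp (psi g A).toRingHom =
        (eval₂Hom (algebraMap k (Polynomial k ⧸ 𝔪))
          (fun i => algebraMap k (Polynomial k ⧸ 𝔪) (D i)) : MvPolynomial (Fin n) k →+* _) := by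
      apply MvPolynomial.ringHom_ext
      · intro c
        have h1 : (psi g A) (C c) = Polynomial.C (algebraMap k (Qt g) c) := by
          rw [← algebraMap_eq, AlgHom.commutes]
          rfl
        show θ ((psi g A) (C c)) = _
        rw [h1]
        simp only [θ, Polynomial.coe_eval₂RingHom, Polynomial.eval₂_C, eval₂Hom_C]
        exact ev.commutes c
      · intro i
        have h1 : (psi g A) (X i) =
            Polynomial.X * Polynomial.C (mkQ g (X i) - algebraMap k (Qt g) (A i)) := by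
          rw [psi, aeval_X]
        show θ ((psi g A) (X i)) = _
        rw [h1]
        simp only [θ, Polynomial.coe_eval₂RingHom, Polynomial.eval₂_mul, Polynomial.eval₂_X,
          Polynomial.eval₂_C, eval₂Hom_X']
        have h2 : ev.toRingHom (mkQ g (X i) - algebraMap k (Qt g) (A i)) =
            xs i - algebraMap k (Polynomial k ⧸ 𝔪) (A i) := by
          show ev (mkQ g (X i) - algebraMap k (Qt g) (A i)) = _
          rw [map_sub, ev.commutes]
          congr 1
          show liftQ g (aeval xs) hxs (mkQ g (X i)) = _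
          rw [liftQ_mkQ, aeval_X]
        rw [h2, hxsi]
        field_simp
        ring
    have h1 : θ (psi g A G) = algebraMap k (Polynomial k ⧸ 𝔪) (eval D G) := by
      have h3 := RingHom.congr_fun hcomp G
      have h4 : (eval₂Hom (algebraMap k (Polynomial k ⧸ 𝔪))
          (fun i => algebraMap k (Polynomial k ⧸ 𝔪) (D i))) G =
          algebraMap k (Polynomial k ⧸ 𝔪) (eval D G) :=
        aeval_algebraMap_apply (Polynomial k ⧸ 𝔪) D G
      exact h3.trans h4
    rw [hG, map_zero] at h1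
    exact hD (hinjK (h1.symm.trans (map_zero _).symm))

end Groth.Agent.H27.SA
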