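import Mathlib.RingTheory.Valuation.Basic
import Mathlib.Algebra.MvPolynomial.Eval

/-!
# Congruences for polynomial evaluation with respect to a valuation
-/

set_option autoImplicit false

namespace Groth.Agent.H27.SA

open MvPolynomial

variable {O K Γ : Type*} [CommRing O] [CommRing K] [LinearOrderedCommGroupWithZero Γ]
  (val : Valuation K Γ) (φ : O →+* K) {n : ℕ}

theorem eval_cong (hφ : ∀ r, val (φ r) ≤ 1) (f : MvPolynomial (Fin n) O) (P P' : Fin n → K)
    (hP : ∀ i, val (P i) ≤ 1) (hP' : ∀ i, val (P' i) ≤ 1) (h : ∀ i, val (P i - P' i) < 1) :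
    val (eval₂ φ P f) ≤ 1 ∧ val (eval₂ φ P' f) ≤ 1 ∧ val (eval₂ φ P f - eval₂ φ P' f) < 1 := by
  induction f using MvPolynomial.induction_on with
  | C a =>
    simp only [eval₂_C, sub_self, map_zero]
    exact ⟨hφ a, hφ a, zero_lt_one⟩
  | add p q hp hq =>
    obtain ⟨hp1, hp2, hp3⟩ := hp
    obtain ⟨hq1, hq2, hq3⟩ := hq
    simp only [eval₂_add]
    refine ⟨(val.map_add_le hp1 hq1), (val.map_add_le hp2 hq2), ?_⟩
    have : eval₂ φ P p + eval₂ φ P q - (eval₂ φ P' p + eval₂ φ P' q) =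
        (eval₂ φ P p - eval₂ φ P' p) + (eval₂ φ P q - eval₂ φ P' q) := by ring
    rw [this]
    exact val.map_add_lt hp3 hq3
  | mul_X p i hp =>
    obtain ⟨hp1, hp2, hp3⟩ := hp
    simp only [eval₂_mul, eval₂_X]
    refine ⟨?_, ?_, ?_⟩
    · rw [map_mul]; exact mul_le_one' hp1 (hP i)
    · rw [map_mul]; exact mul_le_one' hp2 (hP' i)
    · have : eval₂ φ P p * P i - eval₂ φ P' p * P' i =
          (eval₂ φ P p - eval₂ φ P' p) * P i + eval₂ φ P' p * (P i - P' i) := by ring
      rw [this]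
      refine val.map_add_lt ?_ ?_
      · rw [map_mul]
        calc val (eval₂ φ P p - eval₂ φ P' p) * val (P i)
            ≤ val (eval₂ φ P p - eval₂ φ P' p) * 1 := mul_le_mul' le_rfl (hP i)
          _ < 1 := by rw [mul_one]; exact hp3
      · rw [map_mul]
        calc val (eval₂ φ P' p) * val (P i - P' i)
            ≤ 1 * val (P i - P' i) := mul_le_mul' hp2 le_rfl
          _ < 1 := by rw [one_mul]; exact h i

theorem eval_le_one (hφ : ∀ r, val (φ r) ≤ 1) (f : MvPolynomial (Fin n) O) (P : Fin n → K)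
    (hP : ∀ i, val (P i) ≤ 1) : val (eval₂ φ P f) ≤ 1 :=
  (eval_cong val φ hφ f P P hP hP (fun i => by rw [sub_self, map_zero]; exact zero_lt_one)).1

theorem eval_unit_cong (hφ : ∀ r, val (φ r) ≤ 1) (f : MvPolynomial (Fin n) O) (P P' : Fin n → K)
    (hP : ∀ i, val (P i) ≤ 1) (hP' : ∀ i, val (P' i) ≤ 1) (h : ∀ i, val (P i - P' i) < 1)
    (hu : val (eval₂ φ P' f) = 1) : val (eval₂ φ P f) = 1 := by
  obtain ⟨-, -, h3⟩ := eval_cong val φ hφ f P P' hP hP' h
  have : eval₂ φ P f = eval₂ φ P' f + (eval₂ φ P f - eval₂ φ P' f) := by ring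
  rw [this, val.map_add_eq_of_lt_left (by rw [hu]; exact h3), hu]

/-- integrality is preserved by small perturbations -/
theorem int_of_close (P P' : K) (hP' : val P' ≤ 1) (h : val (P - P') < 1) : val P ≤ 1 := by
  have : P = P' + (P - P') := by ring
  rw [this]
  exact val.map_add_le hP' h.le

end Groth.Agent.H27.SA
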