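import Mathlib.RingTheory.DedekindDomain.AdicValuation
import Mathlib.RingTheory.DedekindDomain.FiniteAdeleRing
import Mathlib.RingTheory.DedekindDomain.Ideal.Lemmas
import Mathlib.RingTheory.Localization.Integer

/-!
# Strong approximation in the fraction field of a Dedekind domain
-/

set_option autoImplicit false

namespace Groth.Agent.H27.SA

open IsDedekindDomain IsDedekindDomain.HeightOneSpectrum WithZero

variable {R : Type*} [CommRing R] [IsDedekindDomain R] {K : Type*} [Field K] [Algebra R K]
  [IsFractionRing R K]

theorem finite_val_lt_one (x : K) (hx : x ≠ 0) :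
    {v : HeightOneSpectrum R | v.valuation K x < 1}.Finite := by
  refine (HeightOneSpectrum.Support.finite R x⁻¹).subset ?_
  intro v hv
  simp only [HeightOneSpectrum.Support, Set.mem_setOf_eq, map_inv₀] at hv ⊢
  exact (one_lt_inv₀ (zero_lt_iff.mpr ((map_ne_zero _).mpr hx))).mpr hv

theorem finite_val_gt_one (x : K) :
    {v : HeightOneSpectrum R | 1 < v.valuation K x}.Finite :=
  HeightOneSpectrum.Support.finite R x

/-- Strong approximation in a Dedekind domain: prescribed approximations at finitely many
places, integrality at all other places. -/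
theorem dedekind_SA (Sg : Finset (HeightOneSpectrum R)) (b : HeightOneSpectrum R → K)
    (γ : HeightOneSpectrum R → ℤᵐ⁰) (hγ : ∀ v ∈ Sg, γ v ≠ 0) :
    ∃ y : K, (∀ v ∈ Sg, v.valuation K (y - b v) < γ v) ∧ ∀ v, v ∉ Sg → v.valuation K y ≤ 1 := by
  classical
  obtain ⟨⟨d, hd⟩, hint⟩ := IsLocalization.exist_integer_multiples (nonZeroDivisors R) Sg b
  have hd0 : d ≠ 0 := nonZeroDivisors.ne_zero hd
  have hdK : algebraMap R K d ≠ 0 := by
    simpa using hd0
  have hint' : ∀ v : HeightOneSpectrum R, ∃ a : R, v ∈ Sg → algebraMap R K a = d • b v := by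
    intro v
    by_cases hv : v ∈ Sg
    · obtain ⟨a, ha⟩ := hint v hv
      exact ⟨a, fun _ => ha⟩
    · exact ⟨0, fun h => absurd h hv⟩
  choose a ha using hint'
  have hfin := finite_val_lt_one (R := R) (algebraMap R K d) hdK
  have hdpos : ∀ v : HeightOneSpectrum R, 0 < v.valuation K (algebraMap R K d) := fun v =>
    zero_lt_iff.mpr ((map_ne_zero _).mpr hdK)
  have hex : ∀ v : HeightOneSpectrum R, ∃ e : ℕ, exp (-(e : ℤ)) <
      (if v ∈ Sg then γ v else 1) * v.valuation K (algebraMap R K d) := by
    intro v
    apply exists_exp_neg_natCast_lt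
    refine mul_ne_zero ?_ (hdpos v).ne'
    split_ifs with h
    · exact hγ v h
    · exact one_ne_zero
  choose e he using hex
  obtain ⟨z, hz⟩ := IsDedekindDomain.exists_forall_sub_mem_ideal (s := Sg ∪ hfin.toFinset)
    (fun v : HeightOneSpectrum R => v.asIdeal) e (fun v _ => v.prime)
    (fun v _ v' _ hne h => hne (HeightOneSpectrum.ext h))
    (fun v => if v.1 ∈ Sg then a v.1 else 0)
  refine ⟨algebraMap R K z / algebraMap R K d, ?_, ?_⟩
  · intro v hv
    have h1 := hz v (Finset.mem_union_left _ hv)
    simp only [hv, if_true] at h1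
    have h2 : v.valuation K (algebraMap R K (z - a v)) ≤ exp (-(e v : ℤ)) := by
      rw [valuation_of_algebraMap]
      exact (v.intValuation_le_pow_iff_mem _ _).mpr h1
    have h3 : algebraMap R K z / algebraMap R K d - b v =
        algebraMap R K (z - a v) / algebraMap R K d := by
      rw [map_sub, ha v hv, Algebra.smul_def]
      field_simp
    rw [h3, map_div₀]
    have h4 := he v
    rw [if_pos hv] at h4
    exact (div_lt_iff₀ (hdpos v)).mpr (lt_of_le_of_lt h2 h4)
  · intro v hv
    rw [map_div₀]
    by_cases hv' : v ∈ hfin.toFinset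
    · have h1 := hz v (Finset.mem_union_right _ hv')
      simp only [hv, if_false, sub_zero] at h1
      have h2 : v.valuation K (algebraMap R K z) ≤ exp (-(e v : ℤ)) := by
        rw [valuation_of_algebraMap]
        exact (v.intValuation_le_pow_iff_mem _ _).mpr h1
      have h4 := he v
      rw [if_neg hv, one_mul] at h4
      exact (div_le_one₀ (hdpos v)).mpr (h2.trans h4.le)
    · have h1 : v.valuation K (algebraMap R K d) = 1 := by
        rw [Set.Finite.mem_toFinset, Set.mem_setOf_eq, not_lt] at hv'
        exact le_antisymm (v.valuation_le_one d) hv'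
      rw [h1, div_one]
      exact v.valuation_le_one z

end Groth.Agent.H27.SA
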