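import Groth.Agent.H27.SA.Cong
import Mathlib.RingTheory.DedekindDomain.AdicValuation
import Mathlib.NumberTheory.NumberField.InfiniteAdeleRing
import Mathlib.NumberTheory.NumberField.Completion.InfinitePlace
import Mathlib.Topology.Algebra.MvPolynomial

/-!
# From open conditions in completions to conditions on the number field
-/

set_option autoImplicit false

namespace Groth.Agent.H27.SA

open IsDedekindDomain IsDedekindDomain.HeightOneSpectrum MvPolynomial WithZero

section finite

variable {R : Type*} [CommRing R] [IsDedekindDomain R] {K : Type*} [Field K] [Algebra R K]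
  [IsFractionRing R K] (v : HeightOneSpectrum R) {n : ℕ}

theorem val_algebraMap (x : K) :
    Valued.v (algebraMap K (v.adicCompletion K) x) = v.valuation K x :=
  adicCompletion.valued_coe K v x

theorem val_algebraMap_le_one (r : R) : Valued.v (algebraMap R (v.adicCompletion K) r) ≤ 1 := by
  rw [IsScalarTower.algebraMap_apply R K (v.adicCompletion K), val_algebraMap]
  exact v.valuation_le_one r

theorem exists_ball_of_mem_nhds {s : Set (v.adicCompletion K)} {x : v.adicCompletion K}
    (hs : s ∈ nhds x) : ∃ γ : ℤᵐ⁰, γ ≠ 0 ∧ {y | Valued.v (y - x) < γ} ⊆ s := by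
  obtain ⟨γ', h⟩ := Valued.mem_nhds.mp hs
  refine ⟨MonoidWithZeroHom.ValueGroup₀.embedding γ'.1, ?_, fun y hy => h ?_⟩
  · exact (map_ne_zero _).mpr γ'.ne_zero
  · exact (Valuation.restrict_lt_iff_lt_embedding _).mpr hy

theorem ball_mem_nhds (x : v.adicCompletion K) (γ : ℤᵐ⁰) (hγ : γ ≠ 0) :
    {y | Valued.v (y - x) < γ} ∈ nhds x := by
  obtain ⟨z, rfl⟩ := valuedAdicCompletion_surjective K v γ
  rw [Valued.mem_nhds]
  have h' : (Valued.v : Valuation (v.adicCompletion K) ℤᵐ⁰).restrict z ≠ 0 := by simpa using hγ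
  refine ⟨Units.mk0 _ h', fun y hy => ?_⟩
  rw [Units.val_mk0] at hy
  exact (Valuation.restrict_lt_iff _).mp hy

theorem exists_ball_subset (N : Set (Fin n → v.adicCompletion K)) (hN : IsOpen N)
    (P : Fin n → v.adicCompletion K) (hP : P ∈ N) :
    ∃ γ : ℤᵐ⁰, γ ≠ 0 ∧ γ ≤ 1 ∧
      ∀ y : Fin n → v.adicCompletion K, (∀ i, Valued.v (y i - P i) < γ) → y ∈ N := by
  rw [isOpen_pi_iff] at hN
  obtain ⟨I, u, hu, hsub⟩ := hN P hP
  have : ∀ i, ∃ γ : (ℤᵐ⁰)ˣ, i ∈ I → {y | Valued.v (y - P i) < (γ : ℤᵐ⁰)} ⊆ u i := by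
    intro i
    by_cases hi : i ∈ I
    · obtain ⟨ho, hm⟩ := hu i hi
      obtain ⟨γ, hγ0, hγ⟩ := exists_ball_of_mem_nhds v (ho.mem_nhds hm)
      exact ⟨Units.mk0 γ hγ0, fun _ => hγ⟩
    · exact ⟨1, fun h => absurd h hi⟩
  choose γ hγ using this
  obtain ⟨δ, hδ⟩ : ∃ δ : (ℤᵐ⁰)ˣ, ∀ i ∈ (Finset.univ.image γ ∪ {1}), δ ≤ i :=
    ⟨(Finset.univ.image γ ∪ {1}).min' ⟨1, by simp⟩, fun i hi => Finset.min'_le _ i hi⟩
  refine ⟨(δ : ℤᵐ⁰), δ.ne_zero, ?_, ?_⟩
  · have := hδ 1 (by simp)
    exact_mod_cast this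
  · intro y hy
    apply hsub
    intro i hi
    apply hγ i hi
    have h2 : (δ : ℤᵐ⁰) ≤ (γ i : ℤᵐ⁰) := by
      have := hδ (γ i) (by simp)
      exact_mod_cast this
    exact lt_of_lt_of_le (hy i) h2

theorem exists_close (P : Fin n → v.adicCompletion K) (γ : ℤᵐ⁰) (hγ : γ ≠ 0) :
    ∃ b : Fin n → K, ∀ i, Valued.v ((algebraMap K (v.adicCompletion K) (b i)) - P i) < γ := by
  have : ∀ i, ∃ b : K, Valued.v ((algebraMap K (v.adicCompletion K) b) - P i) < γ := by
    intro i
    have hnh : {y | Valued.v (y - P i) < γ} ∈ nhds (P i) := ball_mem_nhds v (P i) γ hγ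
    obtain ⟨b, hb⟩ := (denseRange_algebraMap (K := K) v).mem_nhds hnh
    exact ⟨b, hb⟩
  choose b hb using this
  exact ⟨b, hb⟩

theorem exists_ball_K (N : Set (Fin n → v.adicCompletion K)) (hN : IsOpen N)
    (P : Fin n → v.adicCompletion K) (hP : P ∈ N) :
    ∃ (b : Fin n → K) (γ : ℤᵐ⁰), γ ≠ 0 ∧ γ ≤ 1 ∧
      (∀ i, Valued.v (algebraMap K (v.adicCompletion K) (b i) - P i) < γ) ∧
      ∀ y : Fin n → K, (∀ i, v.valuation K (y i - b i) < γ) →
        (fun i => algebraMap K (v.adicCompletion K) (y i)) ∈ N := by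
  obtain ⟨γ, hγ0, hγ1, hball⟩ := exists_ball_subset v N hN P hP
  obtain ⟨b, hb⟩ := exists_close v P γ hγ0
  refine ⟨b, γ, hγ0, hγ1, hb, fun y hy => hball _ fun i => ?_⟩
  have : algebraMap K (v.adicCompletion K) (y i) - P i =
      algebraMap K (v.adicCompletion K) (y i - b i) +
        (algebraMap K (v.adicCompletion K) (b i) - P i) := by
    rw [map_sub]; ring
  rw [this]
  refine Valuation.map_add_lt _ ?_ (hb i)
  rw [val_algebraMap]
  exact hy i

theorem aeval_completion_eq (f : MvPolynomial (Fin n) R) (Q : Fin n → v.adicCompletion K) :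
    aeval Q (map (algebraMap R K) f) = eval₂ (algebraMap R (v.adicCompletion K)) Q f := by
  rw [aeval_def, eval₂_map, ← IsScalarTower.algebraMap_eq]

theorem aeval_K_eq (f : MvPolynomial (Fin n) R) (b : Fin n → K) :
    aeval b (map (algebraMap R K) f) = eval₂ (algebraMap R K) b f := by
  rw [aeval_def, eval₂_map]
  rfl

theorem algebraMap_eval₂ (f : MvPolynomial (Fin n) R) (b : Fin n → K) :
    algebraMap K (v.adicCompletion K) (eval₂ (algebraMap R K) b f) =
      eval₂ (algebraMap R (v.adicCompletion K)) (fun i => algebraMap K (v.adicCompletion K) (b i))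
        f := by
  rw [eval₂_comp_left, ← IsScalarTower.algebraMap_eq]
  rfl

theorem int_unit_of_close (f : MvPolynomial (Fin n) R) (Q : Fin n → v.adicCompletion K)
    (hQ : ∀ i, Q i ∈ v.adicCompletionIntegers K)
    (hu : Valued.v (aeval Q (map (algebraMap R K) f)) = 1) (b : Fin n → K)
    (hb : ∀ i, Valued.v (algebraMap K (v.adicCompletion K) (b i) - Q i) < 1) :
    (∀ i, v.valuation K (b i) ≤ 1) ∧ v.valuation K (aeval b (map (algebraMap R K) f)) = 1 := by
  have hint : ∀ i, Valued.v (algebraMap K (v.adicCompletion K) (b i)) ≤ 1 := fun i =>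
    int_of_close _ _ _ (hQ i) (hb i)
  refine ⟨fun i => by rw [← val_algebraMap v]; exact hint i, ?_⟩
  rw [aeval_K_eq, ← val_algebraMap v, algebraMap_eval₂]
  rw [aeval_completion_eq] at hu
  exact eval_unit_cong _ _ (val_algebraMap_le_one v) f _ Q hint hQ hb hu

/-- `K`-level version: points close to an integral point with a unit value are such. -/
theorem int_unit_of_close_K (f : MvPolynomial (Fin n) R) (b : Fin n → K)
    (hb : ∀ i, v.valuation K (b i) ≤ 1)
    (hu : v.valuation K (aeval b (map (algebraMap R K) f)) = 1) (y : Fin n → K)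
    (hy : ∀ i, v.valuation K (y i - b i) < 1) :
    (∀ i, v.valuation K (y i) ≤ 1) ∧ v.valuation K (aeval y (map (algebraMap R K) f)) = 1 := by
  have hint : ∀ i, v.valuation K (y i) ≤ 1 := fun i => int_of_close _ _ _ (hb i) (hy i)
  refine ⟨hint, ?_⟩
  rw [aeval_K_eq] at hu ⊢
  exact eval_unit_cong _ _ (fun r => v.valuation_le_one r) f y b hint hb hy hu

theorem aeval_int (f : MvPolynomial (Fin n) R) (y : Fin n → K)
    (hy : ∀ i, v.valuation K (y i) ≤ 1) :
    v.valuation K (aeval y (map (algebraMap R K) f)) ≤ 1 := by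
  rw [aeval_K_eq]
  exact eval_le_one _ _ (fun r => v.valuation_le_one r) f y hy

end finite

section infinite

open NumberField

variable {k : Type*} [Field k] [NumberField k] {n : ℕ}

theorem norm_algebraMap_completion (w : InfinitePlace k) (x : k) :
    ‖algebraMap k w.Completion x‖ = w x := by
  rw [InfinitePlace.Completion.algebraMap_apply]
  exact InfinitePlace.Completion.norm_coe w ((WithAbs.equiv w.1).symm x)

theorem dist_algebraMap_completion (w : InfinitePlace k) (x y : k) :
    dist (algebraMap k w.Completion x) (algebraMap k w.Completion y) = w (x - y) := by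
  rw [dist_eq_norm, ← map_sub, norm_algebraMap_completion]

theorem exists_arch_close (Pt : (w : InfinitePlace k) → w.Completion) (ε : ℝ) (hε : 0 < ε) :
    ∃ c : k, ∀ w, dist (algebraMap k w.Completion c) (Pt w) < ε := by
  have hopen : IsOpen (Set.pi Set.univ (fun w : InfinitePlace k => Metric.ball (Pt w) ε) :
      Set (InfiniteAdeleRing k)) :=
    isOpen_set_pi Set.finite_univ (fun w _ => Metric.isOpen_ball)
  have hne : (Set.pi Set.univ (fun w : InfinitePlace k => Metric.ball (Pt w) ε) :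
      Set (InfiniteAdeleRing k)).Nonempty :=
    ⟨Pt, fun w _ => Metric.mem_ball_self hε⟩
  obtain ⟨c, hc⟩ := (InfiniteAdeleRing.denseRange_algebraMap k).exists_mem_open hopen hne
  exact ⟨c, fun w => hc w (Set.mem_univ w)⟩

theorem aeval_completion_arch (w : InfinitePlace k) (g : MvPolynomial (Fin n) k) (y : Fin n → k) :
    aeval (fun i => algebraMap k w.Completion (y i)) g = algebraMap k w.Completion (aeval y g) :=
  aeval_algebraMap_apply w.Completion y g

theorem exists_arch {m : ℕ} (f : Fin m → MvPolynomial (Fin n) (𝓞 k))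
    (Pi : (w : InfinitePlace k) → Fin n → w.Completion)
    (hPi : ∀ w, ∃ j, aeval (Pi w) (map (algebraMap (𝓞 k) k) (f j)) ≠ 0)
    (Ni : (w : InfinitePlace k) → Set (Fin n → w.Completion))
    (hNi : ∀ w, IsOpen (Ni w) ∧ Pi w ∈ Ni w) :
    ∃ (c : Fin n → k) (ε : ℝ), 0 < ε ∧ ∀ y : Fin n → k, (∀ (w : InfinitePlace k) (i : Fin n), w (y i - c i) < ε) →
      (∀ w, (fun i => algebraMap k w.Completion (y i)) ∈ Ni w) ∧
        ∃ j, aeval y (map (algebraMap (𝓞 k) k) (f j)) ≠ 0 := by
  choose j hj using hPi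
  have hball : ∀ w, ∃ ε : ℝ, 0 < ε ∧ Metric.ball (Pi w) ε ⊆
      Ni w ∩ {z | aeval z (map (algebraMap (𝓞 k) k) (f (j w))) ≠ 0} := by
    intro w
    have hcont : Continuous fun z : Fin n → w.Completion =>
        aeval z (map (algebraMap (𝓞 k) k) (f (j w))) := by
      have : (fun z : Fin n → w.Completion => aeval z (map (algebraMap (𝓞 k) k) (f (j w)))) =
          fun z => eval z (map (algebraMap k w.Completion) (map (algebraMap (𝓞 k) k) (f (j w)))) := by
        funext z
        rw [aeval_def, eval_map]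
      rw [this]
      exact MvPolynomial.continuous_eval _
    have hopen : IsOpen (Ni w ∩ {z | aeval z (map (algebraMap (𝓞 k) k) (f (j w))) ≠ 0}) :=
      (hNi w).1.inter (isOpen_compl_singleton.preimage hcont)
    exact Metric.isOpen_iff.mp hopen (Pi w) ⟨(hNi w).2, hj w⟩
  choose ε hε hsub using hball
  obtain ⟨w₁, hw₁⟩ := Finite.exists_min ε
  have hε₁ : 0 < ε w₁ := hε w₁
  have hc : ∀ i, ∃ c : k, ∀ w, dist (algebraMap k w.Completion c) (Pi w i) < ε w₁ / 2 :=
    fun i => exists_arch_close (fun w => Pi w i) (ε w₁ / 2) (by positivity)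
  choose c hc using hc
  refine ⟨c, ε w₁ / 2, by positivity, fun y hy => ?_⟩
  have hmem : ∀ w, (fun i => algebraMap k w.Completion (y i)) ∈
      Ni w ∩ {z | aeval z (map (algebraMap (𝓞 k) k) (f (j w))) ≠ 0} := by
    intro w
    apply hsub w
    rw [Metric.mem_ball, dist_pi_lt_iff (hε w)]
    intro i
    calc dist (algebraMap k w.Completion (y i)) (Pi w i)
        ≤ dist (algebraMap k w.Completion (y i)) (algebraMap k w.Completion (c i)) +
          dist (algebraMap k w.Completion (c i)) (Pi w i) := dist_triangle _ _ _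
      _ < ε w₁ / 2 + ε w₁ / 2 := by
        rw [dist_algebraMap_completion]
        exact add_lt_add (hy w i) (hc i w)
      _ = ε w₁ := by ring
      _ ≤ ε w := hw₁ w
  refine ⟨fun w => (hmem w).1, ?_⟩
  obtain ⟨w⟩ : Nonempty (InfinitePlace k) := inferInstance
  refine ⟨j w, fun h0 => (hmem w).2 ?_⟩
  rw [aeval_completion_arch, h0, map_zero]

end infinite

end Groth.Agent.H27.SA
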