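import Groth.Agent.H27.SA.Dedekind
import Mathlib.NumberTheory.NumberField.Basic
import Mathlib.NumberTheory.NumberField.InfinitePlace.Basic
import Mathlib.Algebra.Order.Floor.Ring

/-!
# Small elements of `𝓞[1/𝔭₀]` and strong approximation off a finite place
-/

set_option autoImplicit false

namespace Groth.Agent.H27.SA

open IsDedekindDomain IsDedekindDomain.HeightOneSpectrum WithZero NumberField

theorem pigeonhole_coords {ι V : Type*} [Fintype ι] [AddCommGroup V] [Module ℚ V]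
    (B : Module.Basis ι ℚ V) (g : ℕ → V) (L : ℕ) (hL : 0 < L) :
    ∃ i j : ℕ, i ≠ j ∧ ∃ z : ι → ℤ, ∀ l, |B.repr (g j - g i) l - z l| < 1 / (L : ℚ) := by
  have hLq : (0 : ℚ) < L := by exact_mod_cast hL
  let cell : ℕ → ι → ℤ := fun j l => ⌊(L : ℚ) * Int.fract (B.repr (g j) l)⌋
  have hmaps : Set.MapsTo cell Set.univ (Set.pi Set.univ fun _ => Set.Icc (0 : ℤ) (L - 1)) := by
    intro j _ l _
    have h0 := Int.fract_nonneg (B.repr (g j) l)
    have h1 := Int.fract_lt_one (B.repr (g j) l)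
    constructor
    · exact Int.floor_nonneg.mpr (by positivity)
    · have : ⌊(L : ℚ) * Int.fract (B.repr (g j) l)⌋ < L := by
        rw [Int.floor_lt]
        push_cast
        nlinarith
      change ⌊(L : ℚ) * Int.fract (B.repr (g j) l)⌋ ≤ (L : ℤ) - 1
      omega
  have hfin : (Set.pi Set.univ fun _ : ι => Set.Icc (0 : ℤ) (L - 1)).Finite :=
    Set.Finite.pi fun _ => Set.finite_Icc _ _
  obtain ⟨i, -, j, -, hne, heq⟩ := Set.infinite_univ.exists_ne_map_eq_of_mapsTo hmaps hfin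
  refine ⟨i, j, hne, fun l => ⌊B.repr (g j) l⌋ - ⌊B.repr (g i) l⌋, fun l => ?_⟩
  have h : ⌊(L : ℚ) * Int.fract (B.repr (g i) l)⌋ = ⌊(L : ℚ) * Int.fract (B.repr (g j) l)⌋ :=
    congrFun heq l
  have h2 := Int.abs_sub_lt_one_of_floor_eq_floor h
  rw [map_sub, Finsupp.sub_apply]
  have h3 : B.repr (g j) l - B.repr (g i) l -
      ((⌊B.repr (g j) l⌋ - ⌊B.repr (g i) l⌋ : ℤ) : ℚ) =
      Int.fract (B.repr (g j) l) - Int.fract (B.repr (g i) l) := by
    push_cast
    unfold Int.fract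
    ring
  rw [h3]
  rw [← mul_sub, abs_mul, abs_of_pos hLq] at h2
  rw [abs_sub_comm, lt_div_iff₀ hLq, mul_comm]
  exact h2

section NF

variable {k : Type*} [Field k] [NumberField k]

theorem infinitePlace_ratCast (w : InfinitePlace k) (q : ℚ) : w (q : k) = |(q : ℝ)| := by
  rw [← InfinitePlace.norm_embedding_eq w, map_ratCast, Complex.norm_ratCast]

theorem infinitePlace_rat_smul (w : InfinitePlace k) (q : ℚ) (y : k) :
    w (q • y) = |(q : ℝ)| * w y := by
  rw [Rat.smul_def, map_mul, infinitePlace_ratCast]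

theorem infinitePlace_le_of_coords (w : InfinitePlace k) (a : k) (δ : ℝ)
    (h : ∀ l, |(((integralBasis k).repr a l : ℚ) : ℝ)| ≤ δ) :
    w a ≤ δ * ∑ l, w (integralBasis k l) := by
  conv_lhs => rw [← (integralBasis k).sum_repr a]
  calc w (∑ l, (integralBasis k).repr a l • integralBasis k l)
      ≤ ∑ l, w ((integralBasis k).repr a l • integralBasis k l) :=
        w.1.sum_le _ _
    _ = ∑ l, |(((integralBasis k).repr a l : ℚ) : ℝ)| * w (integralBasis k l) := by
        simp only [infinitePlace_rat_smul]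
    _ ≤ ∑ l, δ * w (integralBasis k l) :=
        Finset.sum_le_sum fun l _ => mul_le_mul_of_nonneg_right (h l) (apply_nonneg w _)
    _ = δ * ∑ l, w (integralBasis k l) := (Finset.mul_sum _ _ _).symm

/-- integer combination of the integral basis, as an element of `𝓞 k` -/
noncomputable def intComb (z : Module.Free.ChooseBasisIndex ℤ (𝓞 k) → ℤ) : 𝓞 k :=
  ∑ l, z l • RingOfIntegers.basis k l

theorem repr_intComb (z : Module.Free.ChooseBasisIndex ℤ (𝓞 k) → ℤ)
    (l : Module.Free.ChooseBasisIndex ℤ (𝓞 k)) :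
    (integralBasis k).repr (algebraMap (𝓞 k) k (intComb z)) l = (z l : ℚ) := by
  rw [integralBasis_repr_apply, intComb, Module.Basis.repr_sum_self]
  simp

theorem exists_round (ξ : k) : ∃ y : 𝓞 k, ∀ w : InfinitePlace k,
    w (ξ - algebraMap (𝓞 k) k y) ≤ ∑ l, w (integralBasis k l) := by
  refine ⟨intComb fun l => ⌊(integralBasis k).repr ξ l⌋, fun w => ?_⟩
  have := infinitePlace_le_of_coords w
    (ξ - algebraMap (𝓞 k) k (intComb fun l => ⌊(integralBasis k).repr ξ l⌋)) 1 ?_
  · rwa [one_mul] at this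
  · intro l
    rw [map_sub, Finsupp.sub_apply, repr_intComb]
    have h0 := Int.fract_nonneg ((integralBasis k).repr ξ l)
    have h1 := Int.fract_lt_one ((integralBasis k).repr ξ l)
    have : (integralBasis k).repr ξ l - (⌊(integralBasis k).repr ξ l⌋ : ℚ) =
        Int.fract ((integralBasis k).repr ξ l) := rfl
    rw [this, abs_of_nonneg (by exact_mod_cast h0)]
    exact_mod_cast h1.le

theorem one_lt_val_pow_sub {v₀ : HeightOneSpectrum (𝓞 k)} {x : k} (hx : 1 < v₀.valuation k x)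
    {i j : ℕ} (hij : i < j) : 1 < v₀.valuation k (x ^ j - x ^ i) := by
  have h1 : v₀.valuation k (x ^ i) < v₀.valuation k (x ^ j) := by
    rw [map_pow, map_pow]
    exact pow_lt_pow_right₀ hx hij
  have h2 : v₀.valuation k (x ^ j - x ^ i) = v₀.valuation k (x ^ j) := by
    rw [sub_eq_add_neg]
    apply Valuation.map_add_eq_of_lt_left
    rwa [Valuation.map_neg]
  rw [h2, map_pow]
  exact one_lt_pow₀ hx (by omega)

theorem exists_small (v₀ : HeightOneSpectrum (𝓞 k)) (ε : ℝ) (hε : 0 < ε) :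
    ∃ a : k, a ≠ 0 ∧ (∀ v : HeightOneSpectrum (𝓞 k), v ≠ v₀ → v.valuation k a ≤ 1) ∧
      ∀ w : InfinitePlace k, w a < ε := by
  classical
  obtain ⟨π, hπ⟩ := v₀.valuation_exists_uniformizer k
  obtain ⟨x, hx1, hx2⟩ := dedekind_SA ({v₀} : Finset (HeightOneSpectrum (𝓞 k)))
    (fun _ => π⁻¹) (fun _ => 1) (by simp)
  have hπinv : v₀.valuation k π⁻¹ = exp (1 : ℤ) := by
    rw [map_inv₀, hπ, ← exp_neg, neg_neg]
  have hx0 : 1 < v₀.valuation k x := by
    have h := hx1 v₀ (by simp)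
    have : x = π⁻¹ + (x - π⁻¹) := by ring
    rw [this, Valuation.map_add_eq_of_lt_left _ (by rw [hπinv]; exact lt_trans h (by
      rw [← exp_zero, exp_lt_exp]; norm_num)), hπinv, ← exp_zero, exp_lt_exp]
    norm_num
  have hxint : ∀ v : HeightOneSpectrum (𝓞 k), v ≠ v₀ → v.valuation k x ≤ 1 := fun v hv =>
    hx2 v (by simpa using hv)
  set Mtot : ℝ := ∑ w : InfinitePlace k, ∑ l, w (integralBasis k l) with hM
  have hMnn : 0 ≤ Mtot := Finset.sum_nonneg fun w _ => Finset.sum_nonneg fun l _ => apply_nonneg w _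
  obtain ⟨L, hLgt⟩ := exists_nat_gt (Mtot / ε)
  have hLpos : 0 < L := by
    have : (0 : ℝ) < L := lt_of_le_of_lt (div_nonneg hMnn hε.le) hLgt
    exact_mod_cast this
  obtain ⟨i, j, hne, z, hz⟩ := pigeonhole_coords (integralBasis k) (fun j => x ^ j) L hLpos
  refine ⟨(x ^ j - x ^ i) - algebraMap (𝓞 k) k (intComb z), ?_, ?_, ?_⟩
  · intro h0
    have h1 : x ^ j - x ^ i = algebraMap (𝓞 k) k (intComb z) := sub_eq_zero.mp h0
    have h2 : 1 < v₀.valuation k (x ^ j - x ^ i) := by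
      rcases lt_or_gt_of_ne hne with h | h
      · exact one_lt_val_pow_sub hx0 h
      · rw [Valuation.map_sub_swap]; exact one_lt_val_pow_sub hx0 h
    rw [h1] at h2
    exact absurd (v₀.valuation_le_one (intComb z)) (not_le.mpr h2)
  · intro v hv
    refine (Valuation.map_sub_le _ ?_ (v.valuation_le_one _))
    refine Valuation.map_sub_le _ ?_ ?_
    · rw [map_pow]; exact pow_le_one₀ zero_le (hxint v hv)
    · rw [map_pow]; exact pow_le_one₀ zero_le (hxint v hv)
  · intro w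
    have hcoord : ∀ l, |(((integralBasis k).repr
        ((x ^ j - x ^ i) - algebraMap (𝓞 k) k (intComb z)) l : ℚ) : ℝ)| ≤ 1 / (L : ℝ) := by
      intro l
      rw [map_sub, Finsupp.sub_apply, repr_intComb]
      have := (hz l).le
      calc |((((integralBasis k).repr (x ^ j - x ^ i) l - (z l : ℚ) : ℚ)) : ℝ)|
          = ((|(integralBasis k).repr (x ^ j - x ^ i) l - (z l : ℚ)| : ℚ) : ℝ) :=
            (Rat.cast_abs _).symm
        _ ≤ ((1 / (L : ℚ) : ℚ) : ℝ) := Rat.cast_le.mpr this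
        _ = 1 / (L : ℝ) := by push_cast; ring
    have h1 := infinitePlace_le_of_coords w _ _ hcoord
    have h2 : ∑ l, w (integralBasis k l) ≤ Mtot :=
      Finset.single_le_sum (f := fun w : InfinitePlace k => ∑ l, w (integralBasis k l))
        (fun w _ => Finset.sum_nonneg fun l _ => apply_nonneg w _) (Finset.mem_univ w)
    have hLr : (0 : ℝ) < L := by exact_mod_cast hLpos
    calc w ((x ^ j - x ^ i) - algebraMap (𝓞 k) k (intComb z))
        ≤ 1 / (L : ℝ) * ∑ l, w (integralBasis k l) := h1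
      _ ≤ 1 / (L : ℝ) * Mtot := mul_le_mul_of_nonneg_left h2 (by positivity)
      _ < ε := by
        rw [one_div, inv_mul_lt_iff₀ hLr]
        rw [div_lt_iff₀ hε] at hLgt
        linarith

/-- a nonzero integer which is small at the places of `Sg` -/
theorem exists_int_small (Sg : Finset (HeightOneSpectrum (𝓞 k)))
    (γ : HeightOneSpectrum (𝓞 k) → ℤᵐ⁰) (hγ : ∀ v ∈ Sg, γ v ≠ 0) :
    ∃ d : 𝓞 k, d ≠ 0 ∧ ∀ v ∈ Sg, v.valuation k (algebraMap (𝓞 k) k d) < γ v := by
  classical
  have hex : ∀ v : HeightOneSpectrum (𝓞 k), ∃ e : ℕ, v ∈ Sg → exp (-(e : ℤ)) < γ v := by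
    intro v
    by_cases hv : v ∈ Sg
    · obtain ⟨e, he⟩ := exists_exp_neg_natCast_lt (hγ v hv)
      exact ⟨e, fun _ => he⟩
    · exact ⟨0, fun h => absurd h hv⟩
  choose e he using hex
  have hJ : (∏ v ∈ Sg, v.asIdeal ^ e v) ≠ ⊥ := by
    rw [← Ideal.zero_eq_bot, Finset.prod_ne_zero_iff]
    intro v _
    exact pow_ne_zero _ v.ne_bot
  obtain ⟨d, hdJ, hd0⟩ := Submodule.exists_mem_ne_zero_of_ne_bot hJ
  refine ⟨d, hd0, fun v hv => lt_of_le_of_lt ?_ (he v hv)⟩
  rw [valuation_of_algebraMap, intValuation_le_pow_iff_mem]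
  exact Ideal.le_of_dvd (Finset.dvd_prod_of_mem (fun v => v.asIdeal ^ e v) hv) hdJ

/-- **Strong approximation off the finite place `v₀`.** -/
theorem strong_approx (v₀ : HeightOneSpectrum (𝓞 k)) (Sg : Finset (HeightOneSpectrum (𝓞 k)))
    (hv₀ : v₀ ∉ Sg) (b : HeightOneSpectrum (𝓞 k) → k) (γ : HeightOneSpectrum (𝓞 k) → ℤᵐ⁰)
    (hγ : ∀ v ∈ Sg, γ v ≠ 0) (c : k) (ε : ℝ) (hε : 0 < ε) :
    ∃ y : k, (∀ v ∈ Sg, v.valuation k (y - b v) < γ v) ∧ (∀ w : InfinitePlace k, w (y - c) < ε) ∧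
      ∀ v, v ∉ Sg → v ≠ v₀ → v.valuation k y ≤ 1 := by
  obtain ⟨y₁, hy1, hy2⟩ := dedekind_SA Sg b γ hγ
  obtain ⟨d, hd0, hd⟩ := exists_int_small Sg γ hγ
  have hdk : algebraMap (𝓞 k) k d ≠ 0 := by simpa using hd0
  set M : ℝ := ∑ w : InfinitePlace k, ∑ l, w (integralBasis k l) with hM
  have hMnn : 0 ≤ M := Finset.sum_nonneg fun w _ => Finset.sum_nonneg fun l _ => apply_nonneg w _
  set W : ℝ := ∑ w : InfinitePlace k, w (algebraMap (𝓞 k) k d) with hW
  have hWnn : 0 ≤ W := Finset.sum_nonneg fun w _ => apply_nonneg w _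
  obtain ⟨a', ha0, haint, hasm⟩ := exists_small v₀ (ε / ((M + 1) * (W + 1))) (by positivity)
  set a : k := algebraMap (𝓞 k) k d * a' with ha
  have hane : a ≠ 0 := mul_ne_zero hdk ha0
  obtain ⟨y', hy'⟩ := exists_round ((c - y₁) / a)
  refine ⟨y₁ + a * algebraMap (𝓞 k) k y', ?_, ?_, ?_⟩
  · intro v hv
    have hvne : v ≠ v₀ := fun h => hv₀ (h ▸ hv)
    have h1 : y₁ + a * algebraMap (𝓞 k) k y' - b v = (y₁ - b v) + a * algebraMap (𝓞 k) k y' := by
      ring
    rw [h1]
    refine Valuation.map_add_lt _ (hy1 v hv) ?_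
    rw [ha, map_mul, map_mul]
    calc v.valuation k (algebraMap (𝓞 k) k d) * v.valuation k a' *
          v.valuation k (algebraMap (𝓞 k) k y')
        ≤ v.valuation k (algebraMap (𝓞 k) k d) * 1 * 1 :=
          mul_le_mul' (mul_le_mul' le_rfl (haint v hvne)) (v.valuation_le_one y')
      _ < γ v := by rw [mul_one, mul_one]; exact hd v hv
  · intro w
    have h1 : y₁ + a * algebraMap (𝓞 k) k y' - c =
        -(a * ((c - y₁) / a - algebraMap (𝓞 k) k y')) := by
      field_simp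
      ring
    have hneg : w (-(a * ((c - y₁) / a - algebraMap (𝓞 k) k y'))) =
        w (a * ((c - y₁) / a - algebraMap (𝓞 k) k y')) := w.1.map_neg _
    rw [h1, hneg, map_mul]
    have h2 : ∑ l, w (integralBasis k l) ≤ M :=
      Finset.single_le_sum (f := fun w : InfinitePlace k => ∑ l, w (integralBasis k l))
        (fun w _ => Finset.sum_nonneg fun l _ => apply_nonneg w _) (Finset.mem_univ w)
    have h3 : w (algebraMap (𝓞 k) k d) ≤ W :=
      Finset.single_le_sum (f := fun w : InfinitePlace k => w (algebraMap (𝓞 k) k d))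
        (fun w _ => apply_nonneg w _) (Finset.mem_univ w)
    have h4 : w a ≤ (W + 1) * (ε / ((M + 1) * (W + 1))) := by
      rw [ha, map_mul]
      exact mul_le_mul (by linarith) (hasm w).le (apply_nonneg w _) (by linarith)
    have h5 : w ((c - y₁) / a - algebraMap (𝓞 k) k y') ≤ M := (hy' w).trans h2
    calc w a * w ((c - y₁) / a - algebraMap (𝓞 k) k y')
        ≤ (W + 1) * (ε / ((M + 1) * (W + 1))) * M :=
          mul_le_mul h4 h5 (apply_nonneg w _) (by positivity)
      _ = ε * (M / (M + 1)) := by field_simp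
      _ < ε := by
        have : M / (M + 1) < 1 := by rw [div_lt_one (by linarith)]; linarith
        nlinarith
  · intro v hv hvne
    refine Valuation.map_add_le _ (hy2 v hv) ?_
    rw [ha, map_mul, map_mul]
    calc v.valuation k (algebraMap (𝓞 k) k d) * v.valuation k a' *
          v.valuation k (algebraMap (𝓞 k) k y')
        ≤ 1 * 1 * 1 :=
          mul_le_mul' (mul_le_mul' (v.valuation_le_one d) (haint v hvne)) (v.valuation_le_one y')
      _ = 1 := by simp

end NF

end Groth.Agent.H27.SA
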