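import Groth.Agent.H27.SA.Local
import Groth.Agent.H27.SA.Small
import Groth.Agent.H27.SA.Cone
import Mathlib.Algebra.MvPolynomial.Funext

/-!
# Strong approximation for the complement of a codimension two subset of affine space
-/

set_option autoImplicit false
universe u

namespace Groth.Agent.H27.SA

open IsDedekindDomain IsDedekindDomain.HeightOneSpectrum WithZero NumberField MvPolynomial

variable {k : Type u} [Field k] [NumberField k] {n m : ℕ}

theorem exists_grid_nonroot (G : MvPolynomial (Fin n) k) (hG : G ≠ 0) (D₀ : Fin n → k) (c₀ : k)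
    (hc₀ : c₀ ≠ 0) :
    ∃ u : Fin n → 𝓞 k, eval (fun i => D₀ i + c₀ * algebraMap (𝓞 k) k (u i)) G ≠ 0 := by
  by_contra hcon
  push Not at hcon
  apply hG
  apply MvPolynomial.funext_set
    (fun i => Set.range fun r : 𝓞 k => D₀ i + c₀ * algebraMap (𝓞 k) k r)
  · intro i
    apply Set.infinite_range_of_injective
    intro r r' h
    have := mul_left_cancel₀ hc₀ (add_left_cancel h)
    exact RingOfIntegers.coe_injective this
  · intro x hx
    choose u hu using fun i => hx i (Set.mem_univ i)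
    have : x = fun i => D₀ i + c₀ * algebraMap (𝓞 k) k (u i) := funext fun i => (hu i).symm
    rw [this, hcon u, map_zero]

theorem val_eval_le_one (v : HeightOneSpectrum (𝓞 k)) (p : Polynomial k)
    (hp : ∀ e, v.valuation k (p.coeff e) ≤ 1) (t : k) (ht : v.valuation k t ≤ 1) :
    v.valuation k (p.eval t) ≤ 1 := by
  rw [Polynomial.eval_eq_sum_range]
  apply Valuation.map_sum_le
  intro e _
  rw [map_mul, map_pow]
  exact mul_le_one' (hp e) (pow_le_one₀ zero_le ht)

theorem eval_line (A D : Fin n → k) (t : k) (q : MvPolynomial (Fin n) k) :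
    Polynomial.eval t
      (aeval (fun i => Polynomial.C (A i) + Polynomial.X * Polynomial.C (D i)) q) =
      eval (fun i => A i + t * D i) q := by
  have := comp_aeval_apply
    (f := fun i => Polynomial.C (A i) + Polynomial.X * Polynomial.C (D i)) (Polynomial.aeval t) q
  have h2 : (fun i => Polynomial.aeval t
      (Polynomial.C (A i) + Polynomial.X * Polynomial.C (D i))) = fun i => A i + t * D i := by
    funext i
    simp only [map_add, map_mul, Polynomial.aeval_C, Polynomial.aeval_X, Algebra.algebraMap_self,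
      RingHom.id_apply]
  rw [h2] at this
  simpa [Polynomial.coe_aeval_eq_eval] using this

theorem finite_bad_coeff (a : Fin m → Polynomial k) :
    {v : HeightOneSpectrum (𝓞 k) | ∃ j e, 1 < v.valuation k ((a j).coeff e)}.Finite := by
  have : {v : HeightOneSpectrum (𝓞 k) | ∃ j e, 1 < v.valuation k ((a j).coeff e)} ⊆
      ⋃ j : Fin m, ⋃ e ∈ (a j).support,
        {v : HeightOneSpectrum (𝓞 k) | 1 < v.valuation k ((a j).coeff e)} := by
    rintro v ⟨j, e, hv⟩
    simp only [Set.mem_iUnion]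
    refine ⟨j, e, ?_, hv⟩
    rw [Polynomial.mem_support_iff]
    rintro h0
    rw [h0, map_zero] at hv
    exact absurd hv (by simp)
  refine Set.Finite.subset ?_ this
  exact Set.finite_iUnion fun j => Set.Finite.biUnion (Finset.finite_toSet _)
    fun e _ => finite_val_gt_one _

/-- `P` is an integral point of the complement at `v` -/
def Good (f : Fin m → MvPolynomial (Fin n) (𝓞 k)) (v : HeightOneSpectrum (𝓞 k))
    (P : Fin n → k) : Prop :=
  (∀ i, v.valuation k (P i) ≤ 1) ∧
    ∃ j, v.valuation k (aeval P (map (algebraMap (𝓞 k) k) (f j))) = 1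

theorem good_of_close (f : Fin m → MvPolynomial (Fin n) (𝓞 k)) (v : HeightOneSpectrum (𝓞 k))
    (b y : Fin n → k) (hb : Good f v b) (hy : ∀ i, v.valuation k (y i - b i) < 1) :
    Good f v y := by
  obtain ⟨hb1, j, hj⟩ := hb
  obtain ⟨h1, h2⟩ := int_unit_of_close_K v (f j) b hb1 hj y hy
  exact ⟨h1, j, h2⟩

theorem main_k (f : Fin m → MvPolynomial (Fin n) (𝓞 k))
    (hcodim : ringKrullDim (MvPolynomial (Fin n) k ⧸ Ideal.span (Set.range fun j =>
      map (algebraMap (𝓞 k) k) (f j))) + 2 ≤ (n : WithBot ℕ∞))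
    (v₀ : HeightOneSpectrum (𝓞 k)) (Sg : Finset (HeightOneSpectrum (𝓞 k))) (hv₀ : v₀ ∉ Sg)
    (E : Set (HeightOneSpectrum (𝓞 k))) (hv₀E : v₀ ∉ E)
    (b : HeightOneSpectrum (𝓞 k) → Fin n → k) (γ : HeightOneSpectrum (𝓞 k) → ℤᵐ⁰)
    (hγ : ∀ v ∈ Sg, γ v ≠ 0) (hγE : ∀ v ∈ Sg, v ∈ E → γ v ≤ 1 ∧ Good f v (b v))
    (hE : ∀ v ∈ E, ∃ r : Fin n → k, Good f v r)
    (c : Fin n → k) (ε : ℝ) (hε : 0 < ε)
    (hnz : ∀ y : Fin n → k, (∀ (w : InfinitePlace k) (i : Fin n), w (y i - c i) < ε) →
      ∃ j, aeval y (map (algebraMap (𝓞 k) k) (f j)) ≠ 0) :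
    ∃ P : Fin n → k, (∀ v ∈ Sg, ∀ i, v.valuation k (P i - b v i) < γ v) ∧
      (∀ (w : InfinitePlace k) (i : Fin n), w (P i - c i) < ε) ∧ ∀ v ∈ E, Good f v P := by
  classical
  set g : Fin m → MvPolynomial (Fin n) k := fun j => map (algebraMap (𝓞 k) k) (f j) with hg
  -- Step 1: the point `A`
  have hA : ∀ i, ∃ y : k, (∀ v ∈ Sg, v.valuation k (y - b v i) < γ v) ∧
      (∀ w : InfinitePlace k, w (y - c i) < ε / 2) ∧
      ∀ v, v ∉ Sg → v ≠ v₀ → v.valuation k y ≤ 1 :=
    fun i => strong_approx v₀ Sg hv₀ (fun v => b v i) γ hγ (c i) (ε / 2) (by positivity)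
  choose A hA1 hA2 hA3 using hA
  have hAgoodSg : ∀ v ∈ Sg, v ∈ E → Good f v A := fun v hv hvE =>
    good_of_close f v (b v) A (hγE v hv hvE).2
      (fun i => lt_of_lt_of_le (hA1 i v hv) (hγE v hv hvE).1)
  have hAint : ∀ v ∈ E, ∀ i, v.valuation k (A i) ≤ 1 := by
    intro v hvE i
    by_cases hv : v ∈ Sg
    · exact (hAgoodSg v hv hvE).1 i
    · exact hA3 i v hv (fun h => hv₀E (h ▸ hvE))
  obtain ⟨j₀, hj₀⟩ := hnz A (fun w i => lt_trans (hA2 i w) (by linarith))
  -- the bad set `B₁`
  set B₁ : Set (HeightOneSpectrum (𝓞 k)) :=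
    {v | v ∈ E ∧ ∀ j, v.valuation k (aeval A (g j)) ≠ 1} with hB₁
  have hB₁fin : B₁.Finite := by
    refine (finite_val_lt_one (R := 𝓞 k) _ hj₀).subset ?_
    rintro v ⟨hvE, hv⟩
    exact lt_of_le_of_ne (aeval_int v (f j₀) A (hAint v hvE)) (hv j₀)
  have hB₁Sg : ∀ v ∈ B₁, v ∉ Sg := by
    rintro v ⟨hvE, hv⟩ hvS
    obtain ⟨-, j, hj⟩ := hAgoodSg v hvS hvE
    exact hv j hj
  have hAgood : ∀ v ∈ E, v ∉ B₁ → Good f v A := by
    intro v hvE hvB
    refine ⟨hAint v hvE, ?_⟩
    by_contra hcon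
    push Not at hcon
    exact hvB ⟨hvE, hcon⟩
  have hr : ∀ v : HeightOneSpectrum (𝓞 k), ∃ r : Fin n → k, v ∈ B₁ → Good f v r := by
    intro v
    by_cases hv : v ∈ B₁
    · obtain ⟨r, hr⟩ := hE v hv.1
      exact ⟨r, fun _ => hr⟩
    · exact ⟨0, fun h => absurd h hv⟩
  choose r hr using hr
  -- the direction `D`
  have hD₀ : ∀ i, ∃ y : k, (∀ v ∈ hB₁fin.toFinset, v.valuation k (y - (r v i - A i)) < 1) ∧
      ∀ v, v ∉ hB₁fin.toFinset → v.valuation k y ≤ 1 :=
    fun i => dedekind_SA hB₁fin.toFinset (fun v => r v i - A i) (fun _ => 1)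
      (fun _ _ => one_ne_zero)
  choose D₀ hD₀1 hD₀2 using hD₀
  obtain ⟨c₀, hc₀0, hc₀⟩ := exists_int_small (k := k) hB₁fin.toFinset (fun _ => 1)
    (fun _ _ => one_ne_zero)
  have hc₀k : algebraMap (𝓞 k) k c₀ ≠ 0 := by simpa using hc₀0
  have hAev : ∃ j, eval A (g j) ≠ 0 := ⟨j₀, hj₀⟩
  obtain ⟨G, hG0, hG⟩ := exists_cone_poly g hcodim A hAev
  obtain ⟨u, hu⟩ := exists_grid_nonroot G hG0 D₀ (algebraMap (𝓞 k) k c₀) hc₀k
  set D : Fin n → k := fun i => D₀ i + algebraMap (𝓞 k) k c₀ * algebraMap (𝓞 k) k (u i) with hD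
  have hspan := hG D hu
  have hDB₁ : ∀ v ∈ B₁, ∀ i, v.valuation k (D i - (r v i - A i)) < 1 := by
    intro v hv i
    have : D i - (r v i - A i) = (D₀ i - (r v i - A i)) +
        algebraMap (𝓞 k) k c₀ * algebraMap (𝓞 k) k (u i) := by
      simp only [hD]; ring
    rw [this]
    refine Valuation.map_add_lt _ (hD₀1 i v (hB₁fin.mem_toFinset.mpr hv)) ?_
    rw [map_mul]
    calc v.valuation k (algebraMap (𝓞 k) k c₀) * v.valuation k (algebraMap (𝓞 k) k (u i))
        ≤ v.valuation k (algebraMap (𝓞 k) k c₀) * 1 :=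
          mul_le_mul' le_rfl (v.valuation_le_one _)
      _ < 1 := by rw [mul_one]; exact hc₀ v (hB₁fin.mem_toFinset.mpr hv)
  have hDint' : ∀ v, v ∉ B₁ → ∀ i, v.valuation k (D i) ≤ 1 := by
    intro v hv i
    simp only [hD]
    refine Valuation.map_add_le _ (hD₀2 i v (by rwa [hB₁fin.mem_toFinset])) ?_
    rw [map_mul]
    exact mul_le_one' (v.valuation_le_one _) (v.valuation_le_one _)
  have hDint : ∀ v ∈ E, ∀ i, v.valuation k (D i) ≤ 1 := by
    intro v hvE i
    by_cases hv : v ∈ B₁
    · have : D i = (r v i - A i) + (D i - (r v i - A i)) := by ring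
      rw [this]
      exact Valuation.map_add_le _
        (Valuation.map_sub_le _ ((hr v hv).1 i) (hAint v hvE i)) (hDB₁ v hv i).le
    · exact hDint' v hv i
  have hADgood : ∀ v ∈ B₁, Good f v (fun i => A i + D i) := by
    intro v hv
    refine good_of_close f v (r v) _ (hr v hv) (fun i => ?_)
    have : A i + D i - r v i = D i - (r v i - A i) := by ring
    rw [this]
    exact hDB₁ v hv i
  -- Bezout
  have h1mem : (1 : Polynomial k) ∈ Ideal.span (Set.range fun j =>
      aeval (fun i => Polynomial.C (A i) + Polynomial.X * Polynomial.C (D i)) (g j)) := by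
    rw [hspan]; trivial
  obtain ⟨a, ha⟩ := (Ideal.mem_span_range_iff_exists_fun).mp h1mem
  set B₂ : Set (HeightOneSpectrum (𝓞 k)) :=
    {v | v ∈ E ∧ ∃ j e, 1 < v.valuation k ((a j).coeff e)} with hB₂
  have hB₂fin : B₂.Finite := (finite_bad_coeff a).subset (fun v hv => hv.2)
  set Sg₂ : Finset (HeightOneSpectrum (𝓞 k)) :=
    Sg ∪ hB₁fin.toFinset ∪ hB₂fin.toFinset with hSg₂
  have hv₀Sg₂ : v₀ ∉ Sg₂ := by
    simp only [hSg₂, Finset.mem_union, Set.Finite.mem_toFinset, not_or]
    exact ⟨⟨hv₀, fun h => hv₀E h.1⟩, fun h => hv₀E h.1⟩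
  set WD : ℝ := ∑ w : InfinitePlace k, ∑ i, w (D i) with hWD
  have hWDnn : 0 ≤ WD :=
    Finset.sum_nonneg fun w _ => Finset.sum_nonneg fun i _ => apply_nonneg w _
  obtain ⟨t, ht1, ht2, ht3⟩ := strong_approx v₀ Sg₂ hv₀Sg₂
    (fun v => if v ∈ B₁ then 1 else 0) (fun v => if v ∈ Sg then γ v else 1)
    (by
      intro v _
      split_ifs with h
      · exact hγ v h
      · exact one_ne_zero) 0 (ε / (2 * (WD + 1))) (by positivity)
  -- the point `P`
  have hP1 : ∀ v ∈ Sg, ∀ i, v.valuation k (A i + t * D i - b v i) < γ v := by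
    intro v hv i
    have hvS₂ : v ∈ Sg₂ := by simp [hSg₂, hv]
    have h := ht1 v hvS₂
    rw [if_neg (fun h => hB₁Sg v h hv), if_pos hv, sub_zero] at h
    have : A i + t * D i - b v i = (A i - b v i) + t * D i := by ring
    rw [this]
    refine Valuation.map_add_lt _ (hA1 i v hv) ?_
    rw [map_mul]
    calc v.valuation k t * v.valuation k (D i)
        ≤ v.valuation k t * 1 :=
          mul_le_mul' le_rfl (hDint' v (fun h => hB₁Sg v h hv) i)
      _ < γ v := by rw [mul_one]; exact h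
  refine ⟨fun i => A i + t * D i, hP1, ?_, ?_⟩
  · intro w i
    have h1 : w (D i) ≤ WD := by
      have h1 : w (D i) ≤ ∑ i, w (D i) :=
        Finset.single_le_sum (f := fun i => w (D i)) (fun i _ => apply_nonneg w _)
          (Finset.mem_univ i)
      have h2 : ∑ i, w (D i) ≤ WD :=
        Finset.single_le_sum (f := fun w : InfinitePlace k => ∑ i, w (D i))
          (fun w _ => Finset.sum_nonneg fun i _ => apply_nonneg w _) (Finset.mem_univ w)
      exact h1.trans h2
    have h2 := ht2 w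
    rw [sub_zero] at h2
    have h3 : A i + t * D i - c i = (A i - c i) + t * D i := by ring
    rw [h3]
    calc w ((A i - c i) + t * D i) ≤ w (A i - c i) + w (t * D i) := w.1.add_le _ _
      _ = w (A i - c i) + w t * w (D i) := by rw [map_mul]
      _ < ε / 2 + ε / (2 * (WD + 1)) * (WD + 1) := by
          have h4 : w t * w (D i) ≤ ε / (2 * (WD + 1)) * (WD + 1) :=
            mul_le_mul h2.le (by linarith) (apply_nonneg w _) (by positivity)
          linarith [hA2 i w]
      _ = ε := by field_simp; ring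
  · intro v hvE
    have hvne : v ≠ v₀ := fun h => hv₀E (h ▸ hvE)
    by_cases hvS : v ∈ Sg
    · exact good_of_close f v (b v) _ (hγE v hvS hvE).2
        (fun i => lt_of_lt_of_le (hP1 v hvS i) (hγE v hvS hvE).1)
    by_cases hvB₁ : v ∈ B₁
    · have hvS₂ : v ∈ Sg₂ := by simp [hSg₂, hvB₁]
      have h := ht1 v hvS₂
      rw [if_pos hvB₁, if_neg hvS] at h
      refine good_of_close f v _ _ (hADgood v hvB₁) (fun i => ?_)
      have : A i + t * D i - (A i + D i) = (t - 1) * D i := by ring
      rw [this, map_mul]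
      calc v.valuation k (t - 1) * v.valuation k (D i)
          ≤ v.valuation k (t - 1) * 1 := mul_le_mul' le_rfl (hDint v hvE i)
        _ < 1 := by rw [mul_one]; exact h
    by_cases hvB₂ : v ∈ B₂
    · have hvS₂ : v ∈ Sg₂ := by simp [hSg₂, hvB₂]
      have h := ht1 v hvS₂
      rw [if_neg hvB₁, if_neg hvS, sub_zero] at h
      refine good_of_close f v _ _ (hAgood v hvE hvB₁) (fun i => ?_)
      have : A i + t * D i - A i = t * D i := by ring
      rw [this, map_mul]
      calc v.valuation k t * v.valuation k (D i)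
          ≤ v.valuation k t * 1 := mul_le_mul' le_rfl (hDint v hvE i)
        _ < 1 := by rw [mul_one]; exact h
    · have hvS₂ : v ∉ Sg₂ := by
        simp only [hSg₂, Finset.mem_union, Set.Finite.mem_toFinset, not_or]
        exact ⟨⟨hvS, hvB₁⟩, hvB₂⟩
      have htint : v.valuation k t ≤ 1 := ht3 v hvS₂ hvne
      have hPint : ∀ i, v.valuation k (A i + t * D i) ≤ 1 := fun i =>
        Valuation.map_add_le _ (hAint v hvE i)
          (by rw [map_mul]; exact mul_le_one' htint (hDint v hvE i))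
      refine ⟨hPint, ?_⟩
      have hcoef : ∀ j e, v.valuation k ((a j).coeff e) ≤ 1 := by
        intro j e
        by_contra hcon
        exact hvB₂ ⟨hvE, j, e, not_le.mp hcon⟩
      have hid : ∑ j, (a j).eval t * aeval (fun i => A i + t * D i) (g j) = 1 := by
        have := congrArg (Polynomial.eval t) ha
        rw [Polynomial.eval_finset_sum, Polynomial.eval_one] at this
        rw [← this]
        refine Finset.sum_congr rfl fun j _ => ?_
        rw [Polynomial.eval_mul, eval_line]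
        rfl
      by_contra hcon
      push Not at hcon
      have hlt : ∀ j, v.valuation k ((a j).eval t * aeval (fun i => A i + t * D i) (g j)) < 1 := by
        intro j
        rw [map_mul]
        have h1 : v.valuation k (aeval (fun i => A i + t * D i) (g j)) < 1 :=
          lt_of_le_of_ne (aeval_int v (f j) _ hPint) (hcon j)
        calc v.valuation k ((a j).eval t) * v.valuation k (aeval (fun i => A i + t * D i) (g j))
            ≤ 1 * v.valuation k (aeval (fun i => A i + t * D i) (g j)) :=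
              mul_le_mul' (val_eval_le_one v (a j) (hcoef j) t htint) le_rfl
          _ < 1 := by rw [one_mul]; exact h1
      have := Valuation.map_sum_lt (v.valuation k) one_ne_zero (fun j _ => hlt j)
        (s := Finset.univ)
      rw [hid, map_one] at this
      exact lt_irrefl _ this

end Groth.Agent.H27.SA
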